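import Cfsg.Agent.H802.TE.Defs

/-!
# S5261, part E: for `p = 2` the subgroups `R` and `Cs s` are not essential (helper659)

`stR2`, `stC2`.
-/

set_option autoImplicit false
set_option linter.unusedSectionVars false

namespace Cfsg.Agent.H659.TE

open Cfsg Cfsg.FusionSystem Cfsg.Agent.H756.PU Cfsg.Agent.H802.TE
open Cfsg.Agent.H765.D3 Cfsg.Agent.H765.D3.Sy
open Cfsg.Agent.Hex.Defs (sh cr nm tr)
open scoped commutatorElement

universe u

section

variable {F K : Type u} [Field F] [Field K] [Algebra F K] {φ : K ≃ₐ[F] K} [Cub φ]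

/-! ### general facts -/

theorem comm_Q2 {x y : Sy φ} (hx : x.x6 = 0) (hy : y.x6 = 0) :
    ⁅x, y⁆ ∈ Z3 φ ∧ (⁅x, y⁆).x3 = cr φ x.x1 y.x5 - cr φ y.x1 x.x5 := by
  refine ⟨⟨comm_x1 x y, comm_x6 x y, ?_⟩, ?_⟩
  · rw [comm_x5, hx, hy, zero_smul, zero_smul, sub_zero]
  · have := congrArg Sy.x3 (comm_mul x y)
    rw [mul_x3, mul_x3, mul_x3, comm_x1, mul_x6, hx, hy] at this
    simp only [cr_zero_left, sh_zero, smul_zero, zero_smul, add_zero] at this
    linear_combination -this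

theorem two_K [CharP K 2] : (2 : K) = 0 := by
  have := CharP.cast_eq_zero K 2
  exact_mod_cast this

theorem two_F [CharP K 2] (φ : K ≃ₐ[F] K) : (2 : F) = 0 := by
  apply FK_inj φ
  rw [map_ofNat, map_zero]
  exact two_K

theorem double_K [CharP K 2] (a : K) : a + a = 0 := by linear_combination a * two_K (K := K)

theorem double_F [CharP K 2] (φ : K ≃ₐ[F] K) (a : F) : a + a = 0 := by linear_combination a * two_F φ

/-- squares in `Q2`, `p = 2` -/
theorem sq_Q2 [CharP K 2] {x : Sy φ} (hx : x.x6 = 0) : (x ^ 2).x1 = 0 ∧ (x ^ 2).x6 = 0 ∧ (x ^ 2).x5 = 0 ∧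
    (x ^ 2).x3 = cr φ x.x1 x.x5 := by
  rw [pow_two]
  refine ⟨?_, ?_, ?_, ?_⟩
  · rw [mul_x1]
    exact double_K _
  · rw [mul_x6, hx, add_zero]
  · rw [mul_x5, hx, zero_smul, add_zero]
    exact double_K _
  · rw [mul_x3, hx, zero_smul, add_zero, double_K, zero_add]

theorem exists_tr_eq {s : K} (hs : s ≠ 0) (t : F) : ∃ a : K, tr φ (s * a) = t := by
  obtain ⟨r, hr⟩ := exists_tr_ne φ
  refine ⟨s⁻¹ * ((t / tr φ r) • r), ?_⟩
  rw [mul_inv_cancel_left₀ hs, tr_smul, div_mul_cancel₀ _ hr]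

/-- `(s^⊥)^⊥ = F s` -/
theorem perp_perp {s t : K} (hs : s ≠ 0) (h : ∀ a, tr φ (s * a) = 0 → tr φ (t * a) = 0) : ∃ l : F, t = l • s := by
  obtain ⟨r, hr⟩ := exists_tr_eq (φ := φ) hs 1
  refine ⟨tr φ (t * r), ?_⟩
  rw [← sub_eq_zero]
  apply tr_nondeg φ
  intro a
  have h1 := h (a - tr φ (s * a) • r) (by
    rw [mul_sub, tr_sub, mul_smul_comm, tr_smul, hr, mul_one, sub_self])
  rw [mul_sub, tr_sub, mul_smul_comm, tr_smul] at h1
  rw [sub_mul, tr_sub, smul_mul_assoc, tr_smul]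
  linear_combination h1

theorem two_lt_K [Finite K] (φ : K ≃ₐ[F] K) [Cub φ] : 2 < Nat.card K := by
  classical
  haveI := Fintype.ofFinite K
  obtain ⟨t, ht⟩ := Cub.ne (φ := φ)
  have h0 : t ≠ 0 := by
    rintro rfl
    exact ht (map_zero φ)
  have h1 : t ≠ 1 := by
    rintro rfl
    exact ht (map_one φ)
  have h2 : ({0, 1, t} : Finset K).card = 3 := by
    rw [Finset.card_eq_three]
    exact ⟨0, 1, t, zero_ne_one, h0.symm, h1.symm, rfl⟩
  rw [Nat.card_eq_fintype_card]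
  have h3 := Finset.card_le_univ ({0, 1, t} : Finset K)
  omega

/-- the index of a kernel in `Q2` -/
theorem relIndex_of_hom {A : Type u} [AddCommGroup A] {H M : Subgroup (Sy φ)} (f : Sy φ → A)
    (hf : ∀ x ∈ M, ∀ y ∈ M, f (x * y) = f x + f y) (hker : ∀ x ∈ M, x ∈ H ↔ f x = 0) (hsurj : ∀ a, ∃ x ∈ M, f x = a) :
    H.relIndex M = Nat.card A := by
  let g : M →* Multiplicative A := MonoidHom.mk' (fun x => Multiplicative.ofAdd (f x))
    (fun x y => by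
      rw [Subgroup.coe_mul, hf _ x.2 _ y.2]
      exact ofAdd_add _ _)
  have hg : g.ker = H.subgroupOf M := by
    ext x
    rw [MonoidHom.mem_ker, Subgroup.mem_subgroupOf, hker _ x.2]
    exact ⟨fun h => ofAdd_eq_one.1 h, fun h => ofAdd_eq_one.2 h⟩
  have hs : Function.Surjective g := by
    intro a
    obtain ⟨x, hx, h⟩ := hsurj (Multiplicative.toAdd a)
    exact ⟨⟨x, hx⟩, by
      change Multiplicative.ofAdd (f x) = a
      rw [h, ofAdd_toAdd]⟩
  rw [Subgroup.relIndex, ← hg, Subgroup.index_ker, MonoidHom.range_eq_top.2 hs]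
  exact (Nat.card_congr Subgroup.topEquiv.toEquiv).trans (Nat.card_congr Multiplicative.toAdd)

/-! ### `R` -/

/-- `Q2` normalizes every subgroup between `Z3` and `Q2` -/
theorem Q2_le_norm {E : Subgroup (Sy φ)} (h3 : Z3 φ ≤ E) (h2 : E ≤ Q2 φ) :
    Q2 φ ≤ normalizerIn (⊤ : Subgroup (Sy φ)) E := by
  intro x hx
  refine ⟨trivial, ?_⟩
  have key : ∀ y : Sy φ, y ∈ Q2 φ → ∀ e ∈ E, y * e * y⁻¹ ∈ E := by
    intro y hy e he
    have h4 : y * e * y⁻¹ = ⁅y, e⁆ * e := by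
      rw [commutatorElement_def]
      group
    rw [h4]
    exact E.mul_mem (h3 (comm_Q2 hy (h2 he)).1) he
  change x ∈ Subgroup.normalizer (E : Set (Sy φ))
  rw [Subgroup.mem_normalizer_iff]
  intro e
  constructor
  · exact key x hx e
  · intro h
    have h5 := key x⁻¹ ((Q2 φ).inv_mem hx) _ h
    have h6 : x⁻¹ * (x * e * x⁻¹) * x⁻¹⁻¹ = e := by group
    rwa [h6] at h5

theorem Z3_le_R : Z3 φ ≤ R φ := fun _ h => ⟨h.2.1, h.2.2⟩

theorem comm_def' (x y : Sy φ) : x * y * x⁻¹ * y⁻¹ = ⁅x, y⁆ := rfl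

theorem comm_R {x y : Sy φ} (hx : x ∈ R φ) (hy : y ∈ R φ) : ⁅x, y⁆ ∈ Z2 φ := by
  obtain ⟨h1, h2⟩ := comm_Q2 (φ := φ) hx.1 hy.1
  exact ⟨h1.1, h1.2.1, h1.2.2, by rw [h2, hx.2, hy.2, cr_zero_right, cr_zero_right, sub_zero]⟩

/-- `Z2 = Z(R)` -/
theorem Z2_iff_R {x : Sy φ} (hx : x ∈ R φ) : x ∈ Z2 φ ↔ ∀ y ∈ R φ, ⁅x, y⁆ = 1 := by
  constructor
  · intro h y hy
    rw [← commutatorElement_inv, comm_Z2 h, hy.1, zero_mul]
    exact inv_one
  · intro h
    have h1 : x.x1 = 0 := by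
      apply tr_nondeg φ
      intro b
      have := congrArg Sy.x2 (h _ (Z3_le_R (u3_mem b)))
      rw [comm_x2' (u3_mem b)] at this
      exact this
    have h3 : x ∈ Z3 φ := ⟨h1, hx.1, hx.2⟩
    refine ⟨h1, hx.1, hx.2, x3_eq_zero h3 fun a => ?_⟩
    rw [← commutatorElement_inv, h _ (show u1 φ a ∈ R φ from ⟨rfl, rfl⟩), inv_one]
    rfl

/-- a subgroup which is the centre of `E` is invariant -/
theorem inv_of_center {E M : Subgroup (Sy φ)} (Γ : Subgroup (MulAut E)) (hM : M ≤ E)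
    (h : ∀ x ∈ E, x ∈ M ↔ ∀ y ∈ E, ⁅x, y⁆ = 1) : Inv Γ M := by
  refine ⟨hM, fun γ _ e he => ?_⟩
  rw [h _ (γ e).2]
  intro y hy
  rw [h _ e.2] at he
  have h1 := he (γ⁻¹ ⟨y, hy⟩ : E) (γ⁻¹ ⟨y, hy⟩ : E).2
  have h2 : ⁅e, γ⁻¹ ⟨y, hy⟩⁆ = 1 := Subtype.ext h1
  have h3 := congrArg γ h2
  rw [map_commutatorElement, MulAut.apply_inv_self, map_one] at h3
  exact congrArg Subtype.val h3

variable (φ) in
/-- `{x ∈ Z3 | Tr(x3) = 0}` -/
def W3 : Subgroup (Sy φ) where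
  carrier := {x | x ∈ Z3 φ ∧ tr φ x.x3 = 0}
  one_mem' := ⟨one_mem _, tr_zero φ⟩
  mul_mem' {x y} hx hy := by
    refine ⟨mul_mem hx.1 hy.1, ?_⟩
    rw [mul_x3, hx.1.1, hy.1.2.1, cr_zero_left, zero_smul, add_zero, add_zero, tr_add, hx.2, hy.2, add_zero]
  inv_mem' {x} hx := by
    refine ⟨inv_mem hx.1, ?_⟩
    rw [inv_x3, hx.1.1, hx.1.2.1, cr_zero_left, zero_smul, add_zero, sub_zero, tr_neg, hx.2, neg_zero]

variable (φ) in
/-- `{x ∈ Z4 | x5 ∈ F}` -/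
def B5 : Subgroup (Sy φ) where
  carrier := {x | x ∈ Z4 φ ∧ φ x.x5 = x.x5}
  one_mem' := ⟨one_mem _, map_zero φ⟩
  mul_mem' {x y} hx hy := by
    refine ⟨mul_mem hx.1 hy.1, ?_⟩
    rw [mul_x5, hx.1.1, smul_zero, add_zero, map_add, hx.2, hy.2]
  inv_mem' {x} hx := by
    refine ⟨inv_mem hx.1, ?_⟩
    rw [inv_x5, hx.1.1, smul_zero, add_zero, map_neg, hx.2]

theorem stR2 (hS : StSecC.{u}) : StR2.{u} := by
  intro F K _ _ _ _ _ φ _ _ Γ h
  have hQn := Q2_le_norm (φ := φ) (E := R φ) Z3_le_R (fun _ h => h.1)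
  have hRQ : (R φ).relIndex (Q2 φ) = Nat.card K := by
    refine relIndex_of_hom (fun x => x.x5) ?_ ?_ ?_
    · intro x _ y hy
      change (x * y).x5 = x.x5 + y.x5
      rw [mul_x5, show y.x6 = 0 from hy, zero_smul, add_zero]
    · intro x hx
      exact ⟨fun h => h.2, fun h => ⟨hx, h⟩⟩
    · intro a
      exact ⟨u5 φ a, rfl, rfl⟩
  have hZ : (Z2 φ).relIndex (Z3 φ) = Nat.card K := by
    refine relIndex_of_hom (fun x => x.x3) ?_ ?_ ?_
    · intro x hx y hy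
      change (x * y).x3 = x.x3 + y.x3
      rw [mul_x3, hx.1, hy.2.1, cr_zero_left, zero_smul, add_zero, add_zero]
    · intro x hx
      exact ⟨fun h => h.2.2.2, fun h => ⟨hx.1, hx.2.1, hx.2.2, h⟩⟩
    · intro a
      exact ⟨u3 φ a, u3_mem a, rfl⟩
  have hWle : W3 φ ≤ Z3 φ := fun _ h => h.1
  have hZW : Z2 φ ≤ W3 φ := fun x h => ⟨⟨h.1, h.2.1, h.2.2.1⟩, by rw [h.2.2.2]; exact tr_zero φ⟩
  have hmul : (Z2 φ).relIndex (W3 φ) * (W3 φ).relIndex (Z3 φ) = (Z2 φ).relIndex (Z3 φ) :=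
    Subgroup.relIndex_mul_relIndex _ _ _ hZW hWle
  have hW : (W3 φ).relIndex (Z3 φ) = Nat.card F := by
    refine relIndex_of_hom (fun x => tr φ x.x3) ?_ ?_ ?_
    · intro x hx y hy
      change tr φ (x * y).x3 = tr φ x.x3 + tr φ y.x3
      rw [mul_x3, hx.1, hy.2.1, cr_zero_left, zero_smul, add_zero, add_zero, tr_add]
    · intro x hx
      exact ⟨fun h => h.2, fun h => ⟨hx, h⟩⟩
    · intro a
      obtain ⟨b, hb⟩ := exists_tr_eq (φ := φ) one_ne_zero a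
      exact ⟨u3 φ b, u3_mem b, by rw [← hb, one_mul]; rfl⟩
  have hkey := hS h (Z2 φ) (R φ) (Q2 φ) (Q2 φ) (B5 φ) (Z3 φ) (W3 φ)
    (inv_of_center Γ (fun x hx => ⟨hx.2.1, hx.2.2.1⟩) fun x hx => Z2_iff_R hx)
    ⟨le_rfl, fun γ _ e _ => (γ e).2⟩ (fun x hx => ⟨hx.2.1, hx.2.2.1⟩)
    (fun x hx y hy => comm_R hx hy)
    (fun x hx => by
      obtain ⟨h1, h2, h3, h4⟩ := sq_Q2 (φ := φ) hx.1
      exact ⟨h1, h2, h3, by rw [h4, hx.2, cr_zero_right]⟩)
    (fun x _ hx => by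
      have h6 : x.x6 = 0 := x6_eq_zero (by
        rw [← comm_def']
        exact (hx (u1 φ 1) ⟨rfl, rfl⟩).2.2.1)
      refine ⟨h6, cr_nondeg φ fun a => ?_⟩
      have h7 := (hx (u1 φ a) ⟨rfl, rfl⟩).2.2.2
      rw [comm_def', (comm_Q2 h6 (show (u1 φ a).x6 = 0 from rfl)).2] at h7
      have e5 : (u1 φ a).x5 = 0 := rfl
      have e1 : (u1 φ a).x1 = a := rfl
      rw [e5, e1, cr_zero_right, zero_sub, neg_eq_zero] at h7
      exact h7)
    hQn (fun x hx y hy => Z3_le_R (comm_Q2 hx hy).1)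
    (fun x hx => by
      obtain ⟨h1, h2, h3, h4⟩ := sq_Q2 (φ := φ) hx
      exact ⟨h2, h3⟩)
    (by rw [hRQ]; exact two_lt_K φ)
    hQn (fun x hx => hQn hx.1.2)
    (fun hB => by
      have := (hB (show u5 φ 1 ∈ B5 φ from ⟨u5_mem 1, map_one φ⟩)).2
      exact one_ne_zero this)
    Z3_le_R (hWle.trans Z3_le_R)
    (fun x hx y hy => (comm_Q2 hx hy.1).1)
    (fun x hx y hy => by
      rw [comm_def']
      obtain ⟨h1, h2⟩ := comm_Q2 (φ := φ) hx.1.2 hy.1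
      refine ⟨h1, ?_⟩
      rw [h2, hy.2, cr_zero_right, zero_sub, tr_neg, neg_eq_zero]
      have e1 := tr_cr φ y.x1 x.x5 1
      rw [mul_one] at e1
      rw [e1]
      have e2 : cr φ x.x5 1 = 0 := by
        rw [cr_comm, cr_one_left, coe_tr, hx.2, hx.2]
        linear_combination x.x5 * two_K (K := K)
      rw [e2, mul_zero, tr_zero])
  rw [hRQ, hZ] at hkey
  rw [hW, hZ] at hmul
  have hq : 2 ≤ Nat.card F := Finite.one_lt_card
  have hk := two_lt_K φ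
  have h1 : Nat.card K ≤ (Z2 φ).relIndex (W3 φ) := by
    refine Nat.le_of_mul_le_mul_left ?_ (show 0 < Nat.card K by omega)
    rw [← pow_two]
    exact hkey
  nlinarith

/-! ### `Cs s` -/

theorem Z3_le_Cs (s : K) : Z3 φ ≤ Cs φ s := fun x h =>
  ⟨h.2.1, by rw [h.1, mul_zero]; exact tr_zero φ, by rw [h.2.2, mul_zero]; exact tr_zero φ⟩

variable (φ) in
/-- `Z(Cs s)` -/
def Zs (s : K) : Subgroup (Sy φ) where
  carrier := {x | x ∈ Z3 φ ∧ ∃ l : F, x.x3 = l • s}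
  one_mem' := ⟨one_mem _, 0, by rw [zero_smul]; rfl⟩
  mul_mem' {x y} hx hy := by
    obtain ⟨hx, l, hl⟩ := hx
    obtain ⟨hy, m, hm⟩ := hy
    refine ⟨mul_mem hx hy, l + m, ?_⟩
    rw [mul_x3, hx.1, hy.2.1, cr_zero_left, zero_smul, add_zero, add_zero, hl, hm, add_smul]
  inv_mem' {x} hx := by
    obtain ⟨hx, l, hl⟩ := hx
    refine ⟨inv_mem hx, -l, ?_⟩
    rw [inv_x3, hx.1, hx.2.1, cr_zero_left, zero_smul, add_zero, sub_zero, hl, neg_smul]

theorem Zs_iff {s : K} (hs : s ≠ 0) {x : Sy φ} (hx : x ∈ Cs φ s) : x ∈ Zs φ s ↔ ∀ y ∈ Cs φ s, ⁅x, y⁆ = 1 := by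
  constructor
  · rintro ⟨h3, l, hl⟩ y hy
    rw [← commutatorElement_inv, inv_eq_one]
    have hz := comm_mem_Z2 (x := y) h3
    ext
    · exact hz.1
    · exact hz.2.1
    · exact hz.2.2.1
    · exact hz.2.2.2
    · rw [comm_x2' h3, hl, mul_smul_comm, tr_smul, mul_comm y.x1, hy.2.1, mul_zero]
      rfl
    · rw [comm_x4' h3, hl, hy.1, zero_mul, zero_mul, add_zero, zero_sub, smul_mul_assoc, tr_smul, hy.2.2, mul_zero,
        neg_zero]
      rfl
  · intro h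
    have h1 : x.x1 = 0 := by
      apply tr_nondeg φ
      intro b
      have := congrArg Sy.x2 (h _ (Z3_le_Cs s (u3_mem b)))
      rw [comm_x2' (u3_mem b)] at this
      exact this
    have h5 : x.x5 = 0 := by
      apply tr_nondeg φ
      intro b
      have := congrArg Sy.x4 (h _ (Z3_le_Cs s (u3_mem b)))
      rw [comm_x4' (u3_mem b), hx.1] at this
      have e : (u3 φ b).x3 = b := rfl
      rw [e, zero_mul, zero_mul, zero_sub, add_zero] at this
      rw [mul_comm]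
      exact neg_eq_zero.1 this
    have h3 : x ∈ Z3 φ := ⟨h1, hx.1, h5⟩
    refine ⟨h3, perp_perp (φ := φ) hs fun a ha => ?_⟩
    have h4 : ⁅u1 φ a, x⁆ = 1 := by
      rw [← commutatorElement_inv, h _ (show u1 φ a ∈ Cs φ s from ⟨rfl, ha, by
        change tr φ (s * 0) = 0
        rw [mul_zero]; exact tr_zero φ⟩), inv_one]
    have h6 := congrArg Sy.x2 h4
    rw [comm_x2' h3] at h6
    rw [mul_comm]
    exact h6

theorem stC2 (hS : StSecW.{u}) : StC2.{u} := by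
  intro F K _ _ _ _ _ φ _ _ s Γ hs h
  have hQn := Q2_le_norm (φ := φ) (E := Cs φ s) (Z3_le_Cs s) (fun _ h => h.1)
  have hEQ : (Cs φ s).relIndex (Q2 φ) = Nat.card (F × F) := by
    refine relIndex_of_hom (fun x => (tr φ (s * x.x1), tr φ (s * x.x5))) ?_ ?_ ?_
    · intro x _ y hy
      refine Prod.ext ?_ ?_
      · change tr φ (s * (x * y).x1) = tr φ (s * x.x1) + tr φ (s * y.x1)
        rw [mul_x1, mul_add, tr_add]
      · change tr φ (s * (x * y).x5) = tr φ (s * x.x5) + tr φ (s * y.x5)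
        rw [mul_x5, show y.x6 = 0 from hy, zero_smul, add_zero, mul_add, tr_add]
    · intro x hx
      exact ⟨fun h => Prod.ext h.2.1 h.2.2, fun h => ⟨hx, congrArg Prod.fst h, congrArg Prod.snd h⟩⟩
    · rintro ⟨a, b⟩
      obtain ⟨c, hc⟩ := exists_tr_eq (φ := φ) hs a
      obtain ⟨d, hd⟩ := exists_tr_eq (φ := φ) hs b
      exact ⟨⟨c, 0, d, 0, 0, 0⟩, rfl, Prod.ext hc hd⟩
  have hZ : (Z2 φ).relIndex (Zs φ s) = Nat.card F := by
    obtain ⟨r, hr⟩ := exists_tr_eq (φ := φ) hs 1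
    refine relIndex_of_hom (fun x => tr φ (x.x3 * r)) ?_ ?_ ?_
    · intro x hx y hy
      change tr φ ((x * y).x3 * r) = tr φ (x.x3 * r) + tr φ (y.x3 * r)
      rw [mul_x3, hx.1.1, hy.1.2.1, cr_zero_left, zero_smul, add_zero, add_zero, add_mul, tr_add]
    · rintro x ⟨h3, l, hl⟩
      have e1 : tr φ (x.x3 * r) = l := by
        rw [hl, smul_mul_assoc, tr_smul, hr, mul_one]
      constructor
      · intro h0
        change tr φ (x.x3 * r) = 0
        rw [h0.2.2.2, zero_mul, tr_zero]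
      · intro h0
        change tr φ (x.x3 * r) = 0 at h0
        rw [e1] at h0
        exact ⟨h3.1, h3.2.1, h3.2.2, by rw [hl, h0, zero_smul]⟩
    · intro a
      refine ⟨u3 φ (a • s), ⟨u3_mem _, a, rfl⟩, ?_⟩
      change tr φ ((a • s) * r) = a
      rw [smul_mul_assoc, tr_smul, hr, mul_one]
  have hkey := hS h ⊥ (Zs φ s) (Q2 φ) (Q2 φ) (Q2 φ) (Z2 φ) (Z2 φ)
    ⟨bot_le, fun γ _ e he => by
      have h1 : e = 1 := Subtype.ext (Subgroup.mem_bot.1 he)
      rw [h1, map_one]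
      exact Subgroup.one_mem _⟩
    (inv_of_center Γ (fun x hx => Z3_le_Cs s hx.1) fun x hx => Zs_iff hs hx) bot_le
    (fun x hx y hy => by
      have h1 := (Zs_iff hs (Z3_le_Cs s hy.1)).1 hy x hx
      rw [comm_def', ← commutatorElement_inv, h1, inv_one]
      exact Subgroup.one_mem _)
    (fun x hx => by
      have h3 : x ∈ Z3 φ := hx.1
      rw [Subgroup.mem_bot, pow_two]
      ext
      · rw [mul_x1]
        exact double_K _
      · rw [mul_x6]
        exact double_F φ _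
      · rw [mul_x5, h3.2.1, zero_smul, add_zero]
        exact double_K _
      · rw [mul_x3, h3.1, h3.2.1, cr_zero_left, zero_smul, add_zero, add_zero]
        exact double_K _
      · rw [mul_x2, h3.1, h3.2.1, sh_zero, zero_mul, zero_mul, zero_mul, tr_zero, add_zero, add_zero, add_zero]
        exact double_F φ _
      · rw [mul_x4, h3.1, h3.2.1, h3.2.2]
        simp only [sh_zero, mul_zero, zero_mul, tr_zero, add_zero, sub_zero, smul_zero, ne_eq, OfNat.ofNat_ne_zero,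
          not_false_eq_true, zero_pow]
        exact double_F φ _)
    (fun x _ hx => by
      have h2 : ∀ b ∈ Z2 φ, ⁅x, b⁆ = 1 := fun b hb =>
        Subgroup.mem_bot.1 (hx b ⟨⟨hb.1, hb.2.1, hb.2.2.1⟩, 0, by rw [hb.2.2.2, zero_smul]⟩)
      have h6 : x.x6 = 0 := x6_eq_zero' (h2 _ (u2_mem 1))
      have h3 : ⁅x, u3 φ s⁆ = 1 := Subgroup.mem_bot.1 (hx (u3 φ s) ⟨u3_mem s, 1, by rw [one_smul]; rfl⟩)
      refine ⟨h6, ?_, ?_⟩
      · have h4 := congrArg Sy.x2 h3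
        rw [comm_x2' (u3_mem s)] at h4
        rw [mul_comm]
        exact h4
      · have h4 := congrArg Sy.x4 h3
        rw [comm_x4' (u3_mem s), h6, zero_mul, zero_mul, zero_sub, add_zero] at h4
        exact neg_eq_zero.1 h4)
    hQn (fun x hx y hy => Z3_le_Cs s (comm_Q2 hx hy).1)
    (fun x hx => by
      obtain ⟨h1, h2, h3, h4⟩ := sq_Q2 (φ := φ) hx
      exact Z3_le_Cs s ⟨h1, h2, h3⟩)
    (by
      rw [hEQ, Nat.card_prod]
      have hq : 2 ≤ Nat.card F := Finite.one_lt_card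
      nlinarith)
    hQn hQn
    (fun hB => by
      obtain ⟨a, ha⟩ := exists_tr_eq (φ := φ) hs 1
      have := (hB (show u1 φ a ∈ Q2 φ from rfl)).2.1
      rw [show (u1 φ a).x1 = a from rfl, ha] at this
      exact one_ne_zero this)
    (fun x hx => ⟨⟨hx.1, hx.2.1, hx.2.2.1⟩, 0, by rw [hx.2.2.2, zero_smul]⟩)
    (fun x hx => ⟨⟨hx.1, hx.2.1, hx.2.2.1⟩, 0, by rw [hx.2.2.2, zero_smul]⟩)
    (fun x hx y hy => by
      rw [comm_def', comm_Z2 hy, hx, zero_mul]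
      exact Subgroup.mem_bot.2 rfl)
    (fun x hx y hy => by
      rw [comm_def', comm_Z2 hy, hx, zero_mul]
      exact Subgroup.mem_bot.2 rfl)
  rw [hEQ, hZ, Nat.card_prod] at hkey
  have hq : 2 ≤ Nat.card F := Finite.one_lt_card
  have hn : 4 ≤ Nat.card F * Nat.card F := by nlinarith
  generalize Nat.card F * Nat.card F = n at hkey hn
  nlinarith

end

end Cfsg.Agent.H659.TE
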